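import Cfsg.Agent.ClassicalGeometry.PSUAutSylow
import Cfsg.Agent.S0280
import Cfsg.Agent.S0285
import Cfsg.Agent.S0815
import Cfsg.Agent.Prune
set_option linter.all false
prune_inst 0x7f00000000000000000000000000000000000000000000000000000000000000000000000000000000000000000000000000000000000000000000000000000000000000000000000000000000000000003fffffffffffffffffffffffffffbeffbdffffffff
open scoped Cfsg.Agent.FastGrp

/-!
# `U3(3)`: 364 subgroups of order 3, Sylow 3-subgroups non-abelian of order 27
-/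

set_option autoImplicit false

namespace Cfsg.Agent.H597.HT6

open Cfsg Cfsg.Agent.LieClassical.HermBasic Cfsg.Agent.LieClassical.HermSiegel
  Cfsg.Agent.LieClassical.HermGen Cfsg.Agent.LieClassical.SUBasic Matrix
  Cfsg.Agent.ClassicalGeometry.PSUAutBasic

variable {F : Type*} [Field F] [Fintype F]

theorem card_psu33 (hF : Fintype.card F = 3 ^ 2) : Nat.card (PSU 3 F 3) = 6048 := by
  have h1 := S0280.result (F := F) hF 3 (by norm_num)
  generalize Nat.card (Cfsg.PSU 3 F 3) = N at h1 ⊢
  norm_num [Finset.prod_range_succ, Nat.even_iff] at h1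
  omega

theorem card_aut33 (hF : Fintype.card F = 3 ^ 2) : Nat.card (MulAut (PSU 3 F 3)) = 12096 := by
  have hp3 : Fact (Nat.Prime 3) := ⟨by norm_num⟩
  have h1 := S0815.result (F := F) 3 1 (by norm_num) (q := 3) (by norm_num) hF 3 le_rfl (by norm_num)
  rw [h1, card_psu33 hF]
  norm_num

theorem center_triv (hF : Fintype.card F = 3 ^ 2) {z : SU 3 F 3} (hz : z ∈ Subgroup.center (SU 3 F 3)) : z = 1 := by
  obtain ⟨c, hc0, hc4, hc⟩ := exists_scalar_of_mem_center hF le_rfl hz
  have hm : mat z = Matrix.diagonal (fun _ => c) := by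
    apply Matrix.ext_of_mulVec_single
    intro i
    have h1 := hc (Pi.single i 1)
    rw [act_def] at h1
    rw [h1]
    funext j
    rw [Matrix.mulVec_diagonal]
    rfl
  have hdet : (mat z).det = 1 := (z : Matrix.SpecialLinearGroup (Fin 3) F).2
  rw [hm, Matrix.det_diagonal, Fin.prod_univ_three] at hdet
  have hc1 : c = 1 := by
    have h1 : c * c ^ 3 = 1 := hc4
    have h2 : c ^ 3 = 1 := by rw [← hdet]; ring
    rw [h2, mul_one] at h1
    exact h1
  refine ext_act fun v => ?_
  rw [hc, hc1, one_smul, act_one]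

theorem pr_inj (hF : Fintype.card F = 3 ^ 2) : Function.Injective (pr 3 F 3) := by
  rw [injective_iff_map_eq_one]
  intro a ha
  exact center_triv hF (pr_eq_one_iff.1 ha)

/-- `SU ≃ PSU` -/
noncomputable def eSU (hF : Fintype.card F = 3 ^ 2) : SU 3 F 3 ≃* PSU 3 F 3 :=
  MulEquiv.ofBijective (pr 3 F 3) ⟨pr_inj hF, pr_surjective⟩

theorem card_su33 (hF : Fintype.card F = 3 ^ 2) : Nat.card (SU 3 F 3) = 6048 := by
  rw [Nat.card_congr (eSU hF).toEquiv, card_psu33 hF]

/-- non-zero isotropic vectors -/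
def Iso (F : Type*) [Field F] [Fintype F] : Type _ := {v : Fin 3 → F // v ≠ 0 ∧ hermForm 3 F 3 v v = 0}

noncomputable instance : Fintype (Iso F) := Fintype.ofFinite {v : Fin 3 → F // v ≠ 0 ∧ hermForm 3 F 3 v v = 0}

instance : MulAction (SU 3 F 3) (Iso F) where
  smul g v := ⟨act g v.1, by
    refine ⟨fun h => v.2.1 ?_, by rw [herm_act]; exact v.2.2⟩
    rw [act_eq_iff, act_zero] at h
    exact h⟩
  one_smul v := Subtype.ext (act_one _)
  mul_smul g h v := Subtype.ext (act_mul _ _ _)

end Cfsg.Agent.H597.HT6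

private theorem dce_326895b18dd3 : _root_.True := by
  try have : _root_.True := by simp only [_root_.Cfsg.Agent.H597.HT6.Iso.eq_1]
  exact _root_.True.intro
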